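import Mathlib

/-!
# Groups of order 64 with a fixed-point-free automorphism of order three

A non-commutative group of order 64 with such an automorphism has centre of order four, squares
central, and its commutator is conjugate-bilinear.  Six generators with fixed relations determine
the group.
-/

set_option autoImplicit false

open scoped commutatorElement

namespace Cfsg.Agent.FPF64

/-! ### Automorphisms with `g * ρ g * ρ² g = 1` -/

section Triple

variable {G : Type*} [Group G] [Finite G]

theorem triple_of_fpf (ρ : MulAut G) (h3 : ρ ^ 3 = 1) (hfp : ∀ y : G, ρ y = y → y = 1) (a : G) :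
    a * ρ a * ρ (ρ a) = 1 := by
  have hinj : Function.Injective (fun w : G => w⁻¹ * ρ w) := by
    intro v w h
    simp only at h
    have h1 : ρ (w * v⁻¹) = w * v⁻¹ := by
      rw [map_mul, map_inv]
      calc ρ w * (ρ v)⁻¹ = w * (w⁻¹ * ρ w) * (ρ v)⁻¹ := by group
        _ = w * (v⁻¹ * ρ v) * (ρ v)⁻¹ := by rw [h]
        _ = w * v⁻¹ := by group
    exact (mul_inv_eq_one.1 (hfp _ h1)).symm
  obtain ⟨w, rfl⟩ := Finite.injective_iff_surjective.1 hinj a
  have e : ρ (ρ (ρ w)) = w := by
    have := DFunLike.congr_fun h3 w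
    simpa [pow_succ] using this
  simp only [map_mul, map_inv, e]
  group

/-- The hypothesis used below: a 2-group with an automorphism `ρ` satisfying the triple identity. -/
structure Triple (G : Type*) [Group G] where
  ρ : MulAut G
  tri : ∀ a : G, a * ρ a * ρ (ρ a) = 1

variable (T : Triple G) (h2 : IsPGroup 2 G)

omit [Finite G] in
include h2 in
theorem Triple.fpf {y : G} (h : T.ρ y = y) : y = 1 := by
  have := T.tri y
  rw [h, h] at this
  obtain ⟨k, hk⟩ := IsPGroup.iff_orderOf.1 h2 y
  have hd : orderOf y ∣ 3 := orderOf_dvd_of_pow_eq_one (by rw [pow_succ, pow_two]; exact this)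
  rw [hk] at hd
  rcases k with _ | k
  · exact orderOf_eq_one_iff.1 (by simpa using hk)
  · exact absurd (((dvd_pow_self 2 (Nat.succ_ne_zero k)).trans hd)) (by norm_num)

omit [Finite G] in
theorem Triple.cube (a : G) : T.ρ (T.ρ (T.ρ a)) = a := by
  have h1 := T.tri a
  have h := T.tri (T.ρ a)
  calc T.ρ (T.ρ (T.ρ a)) = (T.ρ a * T.ρ (T.ρ a))⁻¹ := (inv_eq_of_mul_eq_one_right h).symm
    _ = a := inv_eq_of_mul_eq_one_left (by rw [← mul_assoc]; exact h1)

omit [Finite G] in
theorem Triple.comm (a : G) : a * T.ρ a = T.ρ a * a := by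
  -- the triple identity for `a` and, shifted, for `ρ² a`
  have h := T.tri (T.ρ (T.ρ a))
  rw [T.cube] at h
  have h1 := T.tri (T.ρ a)
  rw [T.cube] at h1
  have h0 := T.tri a
  have h4 := T.tri a⁻¹
  simp only [map_inv] at h4
  have e1 : T.ρ (T.ρ a) = (a * T.ρ a)⁻¹ := (inv_eq_of_mul_eq_one_right h0).symm
  have e2 : T.ρ (T.ρ a) = (T.ρ a * a)⁻¹ := by
    have h5 : a⁻¹ * (T.ρ a)⁻¹ = T.ρ (T.ρ a) := by
      rw [← mul_inv_eq_one]; exact h4
    rw [← h5]; group
  exact inv_injective (e1.symm.trans e2)

include h2 in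
theorem card_mod_three (S : Subgroup G) (hS : ∀ a ∈ S, T.ρ a ∈ S) : Nat.card S % 3 = 1 := by
  classical
  haveI : Fintype S := Fintype.ofFinite _
  haveI : Fact (Nat.Prime 3) := ⟨Nat.prime_three⟩
  let σ : Equiv.Perm S :=
    { toFun := fun a => ⟨T.ρ a, hS a a.2⟩
      invFun := fun a => ⟨T.ρ (T.ρ a), hS _ (hS a a.2)⟩
      left_inv := fun a => Subtype.ext (T.cube a)
      right_inv := fun a => Subtype.ext (T.cube a) }
  have h3 : σ ^ 3 ^ 1 = 1 := Equiv.ext fun a => Subtype.ext (T.cube a)
  have h := Equiv.Perm.card_compl_support_modEq h3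
  have hs : σ.supportᶜ = {1} := by
    ext a
    rw [Finset.mem_compl, Equiv.Perm.mem_support, not_not, Finset.mem_singleton]
    constructor
    · intro ha; exact Subtype.ext (T.fpf h2 (congrArg Subtype.val ha))
    · rintro rfl; exact Subtype.ext (map_one T.ρ)
  rw [hs, Finset.card_singleton, ← Nat.card_eq_fintype_card] at h
  exact h.symm

include T h2 in
/-- The centre of such a group never has index four. -/
theorem commutative_of_index_four (h4 : (Subgroup.center G).index = 4) : ∀ a b : G, a * b = b * a := by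
  classical
  obtain ⟨g, hg⟩ : ∃ g : G, g ∉ Subgroup.center G := by
    by_contra h
    push Not at h
    rw [(Subgroup.eq_top_iff' _).2 h, Subgroup.index_top] at h4
    norm_num at h4
  let q : G → G ⧸ Subgroup.center G := QuotientGroup.mk
  have hZ : ∀ a ∈ Subgroup.center G, T.ρ a ∈ Subgroup.center G := fun a ha =>
    Subgroup.mem_center_iff.2 fun b => T.ρ.symm.injective (by
      simp only [map_mul, MulEquiv.symm_apply_apply]; exact Subgroup.mem_center_iff.1 ha _)
  obtain ⟨k, hk⟩ := IsPGroup.iff_orderOf.1 h2 g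
  have hnq : q (T.ρ g) ≠ q g := by
    intro h
    apply hg
    have h1 : g⁻¹ * T.ρ g ∈ Subgroup.center G := QuotientGroup.eq.1 h.symm
    obtain ⟨z, hz, e⟩ : ∃ z ∈ Subgroup.center G, T.ρ g = g * z := ⟨_, h1, (mul_inv_cancel_left g _).symm⟩
    have hcube : g ^ 3 ∈ Subgroup.center G := by
      have := T.tri g
      rw [e, map_mul, e] at this
      have e2 : g ^ 3 = (z * z * T.ρ z)⁻¹ := by
        have c : g * z = z * g := Subgroup.mem_center_iff.1 hz g
        rw [eq_inv_iff_mul_eq_one]
        calc g ^ 3 * (z * z * T.ρ z) = g * g * (g * z) * z * T.ρ z := by simp only [pow_succ, pow_zero, one_mul, mul_assoc]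
          _ = g * g * (z * g) * z * T.ρ z := by rw [c]
          _ = g * (g * z) * (g * z * T.ρ z) := by simp only [mul_assoc]
          _ = 1 := this
      rw [e2]
      exact inv_mem (mul_mem (mul_mem hz hz) (hZ z hz))
    have hco : Nat.Coprime 3 (orderOf g) := hk ▸ Nat.Coprime.pow_right k (by norm_num)
    obtain ⟨m, hm⟩ := exists_pow_eq_self_of_coprime hco
    rw [← hm]; exact pow_mem hcube m
  have hn0 : ∀ a, a ∉ Subgroup.center G → q a ≠ 1 := fun a ha h => ha ((QuotientGroup.eq_one_iff a).1 h)
  have hg1 : T.ρ g ∉ Subgroup.center G := fun h => hg (by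
    have := hZ _ (hZ _ h); rwa [T.cube] at this)
  have hcl : ∀ a : G, a ∈ Subgroup.closure ((Subgroup.center G : Set G) ∪ {g, T.ρ g}) := by
    intro a
    obtain ⟨K, hK⟩ : ∃ K, K = Subgroup.closure ((Subgroup.center G : Set G) ∪ {g, T.ρ g}) := ⟨_, rfl⟩
    rw [← hK]
    have hKtop : K = ⊤ := by
      have hle : Subgroup.center G ≤ K := hK ▸ fun z hz => Subgroup.subset_closure (Or.inl hz)
      have hd := Subgroup.index_dvd_of_le hle
      rw [h4] at hd
      by_contra hne
      have hidx : 2 ≤ K.index := Subgroup.one_lt_index_of_ne_top hne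
      have hgK : g ∈ K := hK ▸ Subgroup.subset_closure (Or.inr (Or.inl rfl))
      have hgK1 : T.ρ g ∈ K := hK ▸ Subgroup.subset_closure (Or.inr (Or.inr rfl))
      -- three distinct cosets lie in `K`
      have h3 : 3 ≤ (Subgroup.center G).relIndex K := by
        haveI : Fintype (K ⧸ (Subgroup.center G).subgroupOf K) := Fintype.ofFinite _
        show 3 ≤ Nat.card (K ⧸ (Subgroup.center G).subgroupOf K)
        rw [Nat.card_eq_fintype_card]
        have e : ∀ x y : K, ((x : K ⧸ (Subgroup.center G).subgroupOf K) = y) → q x = q y := fun x y h =>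
          QuotientGroup.eq.2 (by have h1 := QuotientGroup.eq.1 h; exact h1)
        have hcard : ({((1 : K) : K ⧸ (Subgroup.center G).subgroupOf K), ((⟨g, hgK⟩ : K) : K ⧸ (Subgroup.center G).subgroupOf K),
            ((⟨T.ρ g, hgK1⟩ : K) : K ⧸ (Subgroup.center G).subgroupOf K)} : Finset _).card = 3 :=
          Finset.card_eq_three.2 ⟨_, _, _, fun h => hn0 g hg (e _ _ h).symm, fun h => hn0 _ hg1 (e _ _ h).symm,
            fun h => hnq (e _ _ h).symm, rfl⟩
        rw [← hcard]; exact Finset.card_le_univ _
      have := Subgroup.relIndex_mul_index hle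
      rw [h4] at this
      nlinarith
    rw [hKtop]; exact Subgroup.mem_top a
  intro a b
  haveI : IsMulCommutative (Subgroup.closure ((Subgroup.center G : Set G) ∪ {g, T.ρ g})) :=
    Subgroup.isMulCommutative_closure (by
      rintro x (hx | hx | hx) y (hy | hy | hy) <;>
        (try (change x = _ at hx; subst x)) <;> (try (change y = _ at hy; subst y))
      all_goals first
        | rfl
        | exact (Subgroup.mem_center_iff.1 hy _)
        | exact (Subgroup.mem_center_iff.1 hx _).symm
        | exact T.comm g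
        | exact (T.comm g).symm)
  exact congrArg Subtype.val (IsMulCommutative.is_comm.comm (⟨a, hcl a⟩ : Subgroup.closure _) ⟨b, hcl b⟩)

include T h2 in
theorem card_center (hna : ¬ ∀ a b : G, a * b = b * a) (h64 : Nat.card G ∣ 64) :
    Nat.card (Subgroup.center G) = 4 ∧ (Subgroup.center G).index = 16 := by
  haveI : Nontrivial G := by
    by_contra h
    rw [not_nontrivial_iff_subsingleton] at h
    exact hna fun a b => Subsingleton.elim _ _
  have hZ : ∀ a ∈ Subgroup.center G, T.ρ a ∈ Subgroup.center G := fun a ha =>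
    Subgroup.mem_center_iff.2 fun b => T.ρ.symm.injective (by
      simp only [map_mul, MulEquiv.symm_apply_apply]; exact Subgroup.mem_center_iff.1 ha _)
  haveI : Fact (Nat.Prime 2) := ⟨Nat.prime_two⟩
  haveI := h2.center_nontrivial
  have h1 : 1 < Nat.card (Subgroup.center G) := Finite.one_lt_card
  have hm := card_mod_three T h2 _ hZ
  have hG := card_mod_three T h2 ⊤ (fun a _ => Subgroup.mem_top _)
  rw [Subgroup.card_top] at hG
  have hmul := (Subgroup.center G).card_mul_index
  have hi4 : (Subgroup.center G).index ≠ 4 := fun h => hna (commutative_of_index_four T h2 h)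
  have hi1 : (Subgroup.center G).index ≠ 1 := fun h => hna fun a b => by
    rw [Subgroup.index_eq_one] at h
    exact (Subgroup.mem_center_iff.1 (h ▸ Subgroup.mem_top a) b).symm
  obtain ⟨i, hi, hz⟩ := (Nat.dvd_prime_pow Nat.prime_two).1
    ((Subgroup.card_subgroup_dvd_card (Subgroup.center G)).trans (h64.trans (dvd_of_eq (by norm_num : 64 = 2 ^ 6))))
  obtain ⟨j, hj, hx⟩ := (Nat.dvd_prime_pow Nat.prime_two).1
    ((Subgroup.index_dvd_card (Subgroup.center G)).trans (h64.trans (dvd_of_eq (by norm_num : 64 = 2 ^ 6))))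
  have hle : Nat.card G ≤ 64 := Nat.le_of_dvd (by norm_num) h64
  rw [← hmul, hz, hx, ← pow_add] at hle hG
  rw [hz] at hm h1 ⊢
  rw [hx] at hi4 hi1 ⊢
  have hij : i + j ≤ 6 := (Nat.pow_le_pow_iff_right (by norm_num : 1 < 2)).1 (hle.trans (by norm_num))
  interval_cases i <;> interval_cases j <;> simp_all

end Triple

/-! ### Six generators with fixed relations -/

section Rel

/-- The relations. -/
structure Rel {M : Type*} [Group M] (u u' v v' f f' : M) : Prop where
  su : u * u = 1
  su' : u' * u' = 1
  sv : v * v = 1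
  sv' : v' * v' = 1
  sf : f * f = 1
  sf' : f' * f' = 1
  uu : u' * u = u * u'
  vv : v' * v = v * v'
  vu : v * u = u * v * f
  v'u : v' * u = u * v' * f * f'
  vu' : v * u' = u' * v * f * f'
  v'u' : v' * u' = u' * v' * f'
  fu : f * u = u * f
  fu' : f * u' = u' * f
  fv : f * v = v * f
  fv' : f * v' = v' * f
  gu : f' * u = u * f'
  gu' : f' * u' = u' * f'
  gv : f' * v = v * f'
  gv' : f' * v' = v' * f'
  gf : f' * f = f * f'

variable {M : Type*} [Group M] {u u' v v' f f' : M}

/-- Normal form. -/
def word (u u' v v' f f' : M) (i : (Bool × Bool) × (Bool × Bool) × (Bool × Bool)) : M :=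
  (if i.1.1 then u else 1) * (if i.1.2 then u' else 1) * (if i.2.1.1 then v else 1) *
    (if i.2.1.2 then v' else 1) * (if i.2.2.1 then f else 1) * (if i.2.2.2 then f' else 1)

theorem word_mem {K : Subgroup M} (hu : u ∈ K) (hu' : u' ∈ K) (hv : v ∈ K) (hv' : v' ∈ K) (hf : f ∈ K)
    (hf' : f' ∈ K) (i) : word u u' v v' f f' i ∈ K := by
  unfold word
  refine mul_mem (mul_mem (mul_mem (mul_mem (mul_mem ?_ ?_) ?_) ?_) ?_) ?_ <;>
    (split_ifs <;> first | assumption | exact one_mem K)

theorem Rel.range_eq_closure (h : Rel u u' v v' f f') :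
    Set.range (word u u' v v' f f') = (Subgroup.closure ({u, u', v, v', f, f'} : Set M) : Set M) := by
  refine Set.Subset.antisymm ?_ ?_
  · rintro _ ⟨i, rfl⟩
    refine word_mem ?_ ?_ ?_ ?_ ?_ ?_ i <;> exact Subgroup.subset_closure (by simp)
  let q : Bool → M → M := fun b x => if b then x else 1
  have qc : ∀ (b : Bool) (x y : M), x * y = y * x → q b x * y = y * q b x := by
    intro b x y e; cases b <;> simp [q, e]
  have qs : ∀ (b : Bool) (x : M), x * x = 1 → q b x * x = q (!b) x := by
    intro b x e; cases b <;> simp [q, e]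
  have qq : ∀ (b b' : Bool) (x : M), x * x = 1 → q b x * q b' x = q (xor b b') x := by
    intro b b' x e; cases b <;> cases b' <;> simp [q, e]
  have qqc : ∀ (b b' : Bool) (x y : M), x * y = y * x → q b x * q b' y = q b' y * q b x := by
    intro b b' x y e; cases b' <;> simp [q, qc b x y e]
  have w : ∀ a b c d e g, word u u' v v' f f' ((a, b), (c, d), (e, g)) =
      q a u * q b u' * q c v * q d v' * q e f * q g f' := fun a b c d e g => rfl
  -- the last two factors are central
  have cz : ∀ (e g : Bool) (y : M), f * y = y * f → f' * y = y * f' →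
      q e f * q g f' * y = y * (q e f * q g f') := by
    intro e g y h1 h2
    rw [mul_assoc, qc g f' y h2, ← mul_assoc, qc e f y h1, mul_assoc]
  have step : ∀ i, ∀ s ∈ ({u, u', v, v', f, f'} : Set M), ∃ j, word u u' v v' f f' i * s = word u u' v v' f f' j := by
    rintro ⟨⟨a, b⟩, ⟨c, d⟩, e, g⟩ s hs
    rcases hs with rfl | rfl | rfl | rfl | rfl | rfl
    · refine ⟨((!a, b), (c, d), (xor (xor c d) e, xor d g)), ?_⟩
      have h1 : q d v' * s = s * q d v' * (q d f * q d f') := by
        cases d <;> simp [q, h.v'u, ← mul_assoc]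
      have h2 : q c v * s = s * q c v * q c f := by cases c <;> simp [q, h.vu, ← mul_assoc]
      calc word s u' v v' f f' ((a, b), (c, d), (e, g)) * s
          = q a s * q b u' * q c v * (q d v' * s) * (q e f * q g f') := by
            rw [w]; simp only [mul_assoc]; rw [← mul_assoc (q e f), cz e g s h.fu h.gu]
        _ = q a s * q b u' * (q c v * s) * q d v' * (q d f * q d f') * (q e f * q g f') := by
            rw [h1]; simp only [mul_assoc]
        _ = q a s * (q b u' * s) * q c v * (q c f * q d v') * (q d f * q d f') * (q e f * q g f') := by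
            rw [h2]; simp only [mul_assoc]
        _ = q a s * s * q b u' * q c v * q d v' * (q c f * q d f * (q d f' * q e f) * q g f') := by
            rw [qc b u' s h.uu, qqc c d f v' h.fv']; simp only [mul_assoc]
        _ = q (!a) s * q b u' * q c v * q d v' * ((q c f * q d f * q e f) * (q d f' * q g f')) := by
            rw [qs a s h.su, qqc d e f' f h.gf]; simp only [mul_assoc]
        _ = _ := by rw [qq c d f h.sf, qq _ e f h.sf, qq d g f' h.sf', w]; simp only [mul_assoc]
    · refine ⟨((a, !b), (c, d), (xor c e, xor (xor c d) g)), ?_⟩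
      have h1 : q d v' * s = s * q d v' * q d f' := by cases d <;> simp [q, h.v'u', ← mul_assoc]
      have h2 : q c v * s = s * q c v * (q c f * q c f') := by cases c <;> simp [q, h.vu', ← mul_assoc]
      calc word u s v v' f f' ((a, b), (c, d), (e, g)) * s
          = q a u * q b s * q c v * (q d v' * s) * (q e f * q g f') := by
            rw [w]; simp only [mul_assoc]; rw [← mul_assoc (q e f), cz e g s h.fu' h.gu']
        _ = q a u * q b s * (q c v * s) * q d v' * q d f' * (q e f * q g f') := by
            rw [h1]; simp only [mul_assoc]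
        _ = q a u * (q b s * s) * q c v * (q c f * (q c f' * q d v')) * q d f' * (q e f * q g f') := by
            rw [h2]; simp only [mul_assoc]
        _ = q a u * q (!b) s * q c v * ((q c f * q d v') * q c f') * q d f' * (q e f * q g f') := by
            rw [qs b s h.su', qqc c d f' v' h.gv']; simp only [mul_assoc]
        _ = q a u * q (!b) s * q c v * q d v' * (q c f * ((q c f' * q d f') * q e f) * q g f') := by
            rw [qqc c d f v' h.fv']; simp only [mul_assoc]
        _ = q a u * q (!b) s * q c v * q d v' * ((q c f * q e f) * (q (xor c d) f' * q g f')) := by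
            rw [qq c d f' h.sf', qqc _ e f' f h.gf]; simp only [mul_assoc]
        _ = _ := by rw [qq c e f h.sf, qq _ g f' h.sf', w]; simp only [mul_assoc]
    · refine ⟨((a, b), (!c, d), (e, g)), ?_⟩
      calc word u u' s v' f f' ((a, b), (c, d), (e, g)) * s
          = q a u * q b u' * q c s * (q d v' * s) * (q e f * q g f') := by
            rw [w]; simp only [mul_assoc]; rw [← mul_assoc (q e f), cz e g s h.fv h.gv]
        _ = q a u * q b u' * (q c s * s) * q d v' * (q e f * q g f') := by
            rw [qc d v' s h.vv]; simp only [mul_assoc]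
        _ = _ := by rw [qs c s h.sv, w]; simp only [mul_assoc]
    · refine ⟨((a, b), (c, !d), (e, g)), ?_⟩
      calc word u u' v s f f' ((a, b), (c, d), (e, g)) * s
          = q a u * q b u' * q c v * (q d s * s) * (q e f * q g f') := by
            rw [w]; simp only [mul_assoc]; rw [← mul_assoc (q e f), cz e g s h.fv' h.gv']
        _ = _ := by rw [qs d s h.sv', w]; simp only [mul_assoc]
    · refine ⟨((a, b), (c, d), (!e, g)), ?_⟩
      calc word u u' v v' s f' ((a, b), (c, d), (e, g)) * s
          = q a u * q b u' * q c v * q d v' * (q e s * s) * q g f' := by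
            rw [w]; simp only [mul_assoc]; rw [qc g f' s h.gf]
        _ = _ := by rw [qs e s h.sf, w]
    · refine ⟨((a, b), (c, d), (e, !g)), ?_⟩
      rw [w, w, mul_assoc, qs g s h.sf']
  intro x hx
  induction hx using Subgroup.closure_induction_right with
  | one => exact ⟨((false, false), (false, false), (false, false)), by simp [word]⟩
  | mul_right y hy s hs ih =>
    obtain ⟨i, rfl⟩ := ih
    obtain ⟨j, hj⟩ := step i s hs
    exact ⟨j, hj.symm⟩
  | mul_inv_cancel y hy s hs ih =>
    obtain ⟨i, rfl⟩ := ih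
    obtain ⟨j, hj⟩ := step i s hs
    have hsi : s⁻¹ = s := by
      rcases hs with rfl | rfl | rfl | rfl | rfl | rfl <;>
        exact inv_eq_of_mul_eq_one_right (by first | exact h.su | exact h.su' | exact h.sv | exact h.sv' | exact h.sf | exact h.sf')
    exact ⟨j, by rw [hsi]; exact hj.symm⟩

/-- Two groups of order 64 generated by such six elements are isomorphic. -/
theorem nonempty_mulEquiv {M' : Type*} [Group M'] {a a' b b' c c' : M'} (h : Rel u u' v v' f f')
    (h' : Rel a a' b b' c c') (hi : Function.Bijective (word u u' v v' f f'))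
    (hi' : Function.Bijective (word a a' b b' c c')) : Nonempty (M ≃* M') := by
  have hp : Rel (M := M × M') (u, a) (u', a') (v, b) (v', b') (f, c) (f', c') := by
    constructor <;> refine Prod.ext ?_ ?_
    all_goals
      first
        | exact h.su | exact h'.su | exact h.su' | exact h'.su' | exact h.sv | exact h'.sv | exact h.sv' | exact h'.sv'
        | exact h.sf | exact h'.sf | exact h.sf' | exact h'.sf' | exact h.uu | exact h'.uu | exact h.vv | exact h'.vv
        | exact h.vu | exact h'.vu | exact h.v'u | exact h'.v'u | exact h.vu' | exact h'.vu' | exact h.v'u' | exact h'.v'u'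
        | exact h.fu | exact h'.fu | exact h.fu' | exact h'.fu' | exact h.fv | exact h'.fv | exact h.fv' | exact h'.fv'
        | exact h.gu | exact h'.gu | exact h.gu' | exact h'.gu' | exact h.gv | exact h'.gv | exact h.gv' | exact h'.gv'
        | exact h.gf | exact h'.gf
  obtain ⟨Γ, hΓ⟩ : ∃ Γ, Γ = Subgroup.closure ({(u, a), (u', a'), (v, b), (v', b'), (f, c), (f', c')} : Set (M × M')) :=
    ⟨_, rfl⟩
  have hr : Set.range (word (u, a) (u', a') (v, b) (v', b') (f, c) (f', c')) = (Γ : Set (M × M')) :=
    hΓ ▸ hp.range_eq_closure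
  have e1 : ∀ i, word (u, a) (u', a') (v, b) (v', b') (f, c) (f', c') i = (word u u' v v' f f' i, word a a' b b' c c' i) := by
    rintro ⟨⟨x₁, x₂⟩, ⟨x₃, x₄⟩, x₅, x₆⟩
    cases x₁ <;> cases x₂ <;> cases x₃ <;> cases x₄ <;> cases x₅ <;> cases x₆ <;> simp [word, Prod.one_eq_mk]
  have hmem : ∀ x : Γ, ∃ i, (x : M × M') = (word u u' v v' f f' i, word a a' b b' c c' i) := fun x => by
    obtain ⟨i, hx⟩ : (x : M × M') ∈ Set.range (word (u, a) (u', a') (v, b) (v', b') (f, c) (f', c')) := hr ▸ x.2
    exact ⟨i, hx.symm.trans (e1 i)⟩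
  have hin : ∀ i, (word u u' v v' f f' i, word a a' b b' c c' i) ∈ Γ := fun i => by
    rw [← e1, ← SetLike.mem_coe, ← hr]; exact ⟨i, rfl⟩
  have b1 : Function.Bijective ((MonoidHom.fst M M').comp Γ.subtype) := by
    constructor
    · intro x y hxy
      obtain ⟨i, hx⟩ := hmem x
      obtain ⟨j, hy⟩ := hmem y
      change (x : M × M').1 = (y : M × M').1 at hxy
      rw [hx, hy] at hxy
      exact Subtype.ext (by rw [hx, hy, hi.1 hxy])
    · intro m
      obtain ⟨i, rfl⟩ := hi.2 m
      exact ⟨⟨_, hin i⟩, rfl⟩
  have b2 : Function.Bijective ((MonoidHom.snd M M').comp Γ.subtype) := by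
    constructor
    · intro x y hxy
      obtain ⟨i, hx⟩ := hmem x
      obtain ⟨j, hy⟩ := hmem y
      change (x : M × M').2 = (y : M × M').2 at hxy
      rw [hx, hy] at hxy
      exact Subtype.ext (by rw [hx, hy, hi'.1 hxy])
    · intro m
      obtain ⟨i, rfl⟩ := hi'.2 m
      exact ⟨⟨_, hin i⟩, rfl⟩
  exact ⟨(MulEquiv.ofBijective _ b1).symm.trans (MulEquiv.ofBijective _ b2)⟩

end Rel

end Cfsg.Agent.FPF64
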