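import Cfsg.Agent.FPF64.Model
import Cfsg.Agent.Fusion.UniqueInvolution
import Cfsg.Agent.AutPOmega.MinusOut

/-!
# The structure of a group of order 64 with a symmetric group of degree three acting fixed-point-freely
-/

set_option autoImplicit false

open scoped commutatorElement

namespace Cfsg.Agent.FPF64

variable {G : Type*} [Group G] [Finite G] (T : Triple G) (h2 : IsPGroup 2 G)

include T in
omit [Finite G] in
theorem rho_center (a : G) (ha : a ∈ Subgroup.center G) : T.ρ a ∈ Subgroup.center G :=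
  Subgroup.mem_center_iff.2 fun b => T.ρ.symm.injective (by
    simp only [map_mul, MulEquiv.symm_apply_apply]; exact Subgroup.mem_center_iff.1 ha _)

include T h2 in
theorem quotient_comm (hna : ¬ ∀ a b : G, a * b = b * a) (h64 : Nat.card G = 64) :
    ∀ a b : G, ⁅a, b⁆ ∈ Subgroup.center G := by
  obtain ⟨-, hi⟩ := card_center T h2 hna (h64 ▸ dvd_rfl)
  have hmap : (Subgroup.center G).map (T.ρ : G →* G) = Subgroup.center G := by
    refine le_antisymm ?_ fun a ha => ⟨T.ρ (T.ρ a), rho_center T _ (rho_center T a ha), ?_⟩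
    · rintro _ ⟨a, ha, rfl⟩; exact rho_center T a ha
    · exact T.cube a
  let σ : MulAut (G ⧸ Subgroup.center G) := QuotientGroup.congr (Subgroup.center G) (Subgroup.center G) T.ρ hmap
  have hσ : ∀ a : G, σ (a : G ⧸ Subgroup.center G) = ((T.ρ a : G) : G ⧸ Subgroup.center G) := fun a => rfl
  let Tq : Triple (G ⧸ Subgroup.center G) :=
    { ρ := σ
      tri := fun q => by
        obtain ⟨a, rfl⟩ := QuotientGroup.mk_surjective q
        rw [hσ, hσ, ← QuotientGroup.mk_mul, ← QuotientGroup.mk_mul, T.tri]; rfl }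
  have hq : Nat.card (G ⧸ Subgroup.center G) = 16 := hi
  by_cases hab : ∀ a b : G ⧸ Subgroup.center G, a * b = b * a
  · intro a b
    rw [← QuotientGroup.eq_one_iff]
    show ((a * b * a⁻¹ * b⁻¹ : G) : G ⧸ Subgroup.center G) = 1
    rw [QuotientGroup.mk_mul, QuotientGroup.mk_mul, QuotientGroup.mk_mul, hab (a : G ⧸ Subgroup.center G) b]
    simp
  · obtain ⟨hc, hi'⟩ := card_center Tq (h2.to_quotient _) hab (by rw [hq]; norm_num)
    have := (Subgroup.center (G ⧸ Subgroup.center G)).card_mul_index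
    rw [hc, hi', hq] at this
    norm_num at this

/-- The theorem. -/
theorem structure_thm (h64 : Nat.card G = 64) (hna : ¬ IsMulCommutative G) (ρ x : MulAut G)
    (hρ : orderOf ρ = 3) (hx : orderOf x = 2) (hxr : x * ρ * x⁻¹ = ρ⁻¹)
    (hfp : ∀ y : G, ρ y = y → y = 1) (C : Subgroup G) (hC : ∀ y : G, y ∈ C ↔ x y = y) :
    (∃ (u u' v v' f f' : G), Rel u u' v v' f f' ∧ Function.Bijective (word u u' v v' f f')) ∧
      (Nonempty (↥C ≃* DihedralGroup 4) ∨ Nonempty (↥C ≃* QuaternionGroup 2)) := by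
  classical
  haveI : Fact (Nat.Prime 2) := ⟨Nat.prime_two⟩
  have h3 : ρ ^ 3 = 1 := hρ ▸ pow_orderOf_eq_one ρ
  let T : Triple G := ⟨ρ, triple_of_fpf ρ h3 hfp⟩
  have h2 : IsPGroup 2 G := IsPGroup.of_card (n := 6) (by rw [h64]; norm_num)
  have hna' : ¬ ∀ a b : G, a * b = b * a := fun h => hna ⟨⟨h⟩⟩
  obtain ⟨hZ4, -⟩ := card_center T h2 hna' (h64 ▸ dvd_rfl)
  have hc := quotient_comm T h2 hna' h64
  have hcen : ∀ z ∈ Subgroup.center G, ∀ g : G, g * z = z * g := fun z hz => Subgroup.mem_center_iff.1 hz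
  have tri := T.tri
  have cube : ∀ a : G, ρ (ρ (ρ a)) = a := T.cube
  have hρZ : ∀ z ∈ Subgroup.center G, ρ z ∈ Subgroup.center G := rho_center T
  -- the automorphism `x`
  have hxx : ∀ y, x (x y) = y := fun y => by
    have := DFunLike.congr_fun (hx ▸ pow_orderOf_eq_one x : x ^ 2 = 1) y
    simpa [pow_two] using this
  have hxρ : ∀ y, x (ρ y) = ρ (ρ (x y)) := fun y => by
    have h := DFunLike.congr_fun hxr (x y)
    have e : x⁻¹ (x y) = y := x.symm_apply_apply y
    rw [MulAut.mul_apply, MulAut.mul_apply, e] at h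
    rw [h]
    refine ρ.injective ?_
    rw [cube]
    exact ρ.apply_symm_apply _
  have hxZ : ∀ z ∈ Subgroup.center G, x z ∈ Subgroup.center G := fun z hz =>
    Subgroup.mem_center_iff.2 fun b => x.symm.injective (by
      simp only [map_mul, MulEquiv.symm_apply_apply]; exact hcen z hz _)
  -- the centre
  obtain ⟨⟨t, htZ⟩, ht⟩ := exists_prime_orderOf_dvd_card' 2 (show 2 ∣ Nat.card (Subgroup.center G) by rw [hZ4]; norm_num)
  rw [← Subgroup.orderOf_coe] at ht
  change orderOf t = 2 at ht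
  have ht1 : t ≠ 1 := fun e => by rw [e, orderOf_one] at ht; norm_num at ht
  have htt : t * t = 1 := by rw [← pow_two, ← ht]; exact pow_orderOf_eq_one t
  have hd1 : ρ t ≠ t := fun e => ht1 (hfp t e)
  have hd2 : ρ (ρ t) ≠ t := fun e => hd1 (by
    have := congrArg ρ e; rw [cube] at this; exact this.symm)
  have hd3 : ρ (ρ t) ≠ ρ t := fun e => hd1 (ρ.injective e)
  have hne : ∀ y : G, y ≠ 1 → ρ y ≠ 1 := fun y hy h => hy (ρ.injective (h.trans (map_one ρ).symm))
  have horb : ∀ z ∈ Subgroup.center G, z = 1 ∨ z = t ∨ z = ρ t ∨ z = ρ (ρ t) := by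
    intro z hz
    haveI : Fintype (Subgroup.center G) := Fintype.ofFinite _
    by_contra h
    push Not at h
    obtain ⟨h0, h1, h2', h3'⟩ := h
    have hcard : ({(1 : Subgroup.center G), ⟨t, htZ⟩, ⟨ρ t, hρZ t htZ⟩, ⟨ρ (ρ t), hρZ _ (hρZ t htZ)⟩, ⟨z, hz⟩} :
        Finset (Subgroup.center G)).card = 5 := by
      have a1 := hne t ht1
      have a2 := hne _ a1
      rw [Finset.card_insert_of_notMem, Finset.card_insert_of_notMem, Finset.card_insert_of_notMem,
        Finset.card_insert_of_notMem, Finset.card_singleton] <;>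
        simp [Subtype.ext_iff, ht1.symm, a1.symm, a2.symm, hd1.symm, hd2.symm, hd3.symm, h0.symm, h1.symm, h2'.symm, h3'.symm]
    have := hcard ▸ Finset.card_le_univ _
    rw [← Nat.card_eq_fintype_card, hZ4] at this
    omega
  obtain ⟨f, hfZ, hf1, hxf⟩ : ∃ f ∈ Subgroup.center G, f ≠ 1 ∧ x f = f := by
    have hxt : x t ≠ 1 := fun h => ht1 (x.injective (h.trans (map_one x).symm))
    rcases horb (x t) (hxZ t htZ) with e | e | e | e
    · exact absurd e hxt
    · exact ⟨t, htZ, ht1, e⟩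
    · exact ⟨ρ (ρ t), hρZ _ (hρZ t htZ), hne _ (hne t ht1), by simp [hxρ, e, cube]⟩
    · exact ⟨ρ t, hρZ t htZ, hne t ht1, by rw [hxρ, e, cube]⟩
  have horbf : ∀ z ∈ Subgroup.center G, z = 1 ∨ z = f ∨ z = ρ f ∨ z = ρ (ρ f) := by
    intro z hz
    rcases horb f hfZ with e | e | e | e
    · exact absurd e hf1
    · subst e; exact horb z hz
    all_goals
      rcases horb z hz with e' | e' | e' | e' <;> simp only [e, e', cube]
      all_goals simp
  have hff : f * f = 1 := by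
    rcases horb f hfZ with e | e | e | e <;> rw [e] <;> simp [← map_mul, htt]
  have hsq : ∀ z ∈ Subgroup.center G, z * z = 1 := fun z hz => by
    rcases horbf z hz with e | e | e | e <;> rw [e] <;> simp [← map_mul, hff]
  have e1 : ρ f ≠ f := fun e => hf1 (hfp f e)
  have hxρf : x (ρ f) = ρ (ρ f) := by rw [hxρ, hxf]
  have e2 : ρ (ρ f) ≠ f := fun e => e1 (by have := congrArg ρ e; rw [cube] at this; exact this.symm)
  have e3 : ρ (ρ f) ≠ ρ f := fun e => e1 (ρ.injective e)
  have hfix : ∀ z ∈ Subgroup.center G, x z = z → z = 1 ∨ z = f := by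
    intro z hz hzx
    rcases horbf z hz with e | e | e | e
    · exact Or.inl e
    · exact Or.inr e
    · rw [e, hxρf] at hzx; exact absurd hzx e3
    · rw [e, hxρ, hxρf, cube] at hzx; exact absurd hzx.symm e3
  have hfsum : f * ρ f = ρ (ρ f) := by
    have := tri f
    rw [mul_eq_one_iff_eq_inv] at this
    exact this.trans (inv_eq_of_mul_eq_one_right (hsq _ (hρZ _ (hρZ f hfZ))))
  -- commutators
  have hml : ∀ a b g : G, ⁅a * b, g⁆ = ⁅a, g⁆ * ⁅b, g⁆ := fun a b g => by
    calc ⁅a * b, g⁆ = a * ⁅b, g⁆ * a⁻¹ * ⁅a, g⁆ := by simp only [commutatorElement_def]; group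
      _ = ⁅b, g⁆ * ⁅a, g⁆ := by rw [hcen _ (hc b g) a, mul_inv_cancel_right]
      _ = _ := (hcen _ (hc b g) _).symm
  have hmr : ∀ a b g : G, ⁅g, a * b⁆ = ⁅g, a⁆ * ⁅g, b⁆ := fun a b g => by
    calc ⁅g, a * b⁆ = ⁅g, a⁆ * (a * ⁅g, b⁆ * a⁻¹) := by simp only [commutatorElement_def]; group
      _ = _ := by rw [hcen _ (hc g b) a, mul_inv_cancel_right]
  have hinv : ∀ a b : G, ⁅b, a⁆ = ⁅a, b⁆ := fun a b => by
    rw [← commutatorElement_inv, inv_eq_of_mul_eq_one_right (hsq _ (hc a b))]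
  have hρc : ∀ a b : G, ρ ⁅a, b⁆ = ⁅ρ a, ρ b⁆ := fun a b => by
    simp only [commutatorElement_def, map_mul, map_inv]
  have hxc : ∀ a b : G, x ⁅a, b⁆ = ⁅x a, x b⁆ := fun a b => by
    simp only [commutatorElement_def, map_mul, map_inv]
  have hself : ∀ a : G, ⁅a, ρ a⁆ = 1 := fun a => commutatorElement_eq_one_iff_mul_comm.2 (T.comm a)
  have hA : ∀ a b : G, ⁅a, ρ b⁆ = ⁅ρ a, b⁆ := fun a b => by
    have h := hself (a * b)
    rw [map_mul, hml, hmr, hmr, hself, hself, one_mul, mul_one, hinv (ρ a) b] at h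
    exact (eq_inv_of_mul_eq_one_left h).trans (inv_eq_of_mul_eq_one_right (hsq _ (hc _ _)))
  have hB : ∀ a b : G, ⁅a, ρ b⁆ = ρ (ρ ⁅a, b⁆) := fun a b => by
    have h1 : ⁅a, b * ρ b * ρ (ρ b)⁆ = 1 := by rw [T.tri]; exact commutatorElement_one_right _
    rw [hmr, hmr, hA a (ρ b), ← hρc] at h1
    have e := T.tri ⁅a, b⁆
    have hz := hsq _ (hc a (ρ b))
    calc ⁅a, ρ b⁆ = ⁅a, b⁆⁻¹ * (⁅a, b⁆ * ⁅a, ρ b⁆ * ρ ⁅a, b⁆) * (ρ ⁅a, b⁆)⁻¹ := by group
      _ = (ρ ⁅a, b⁆ * ⁅a, b⁆)⁻¹ := by rw [h1]; group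
      _ = (⁅a, b⁆ * ρ ⁅a, b⁆)⁻¹ := by rw [← hcen _ (hρZ _ (hc a b)) ⁅a, b⁆]
      _ = ρ (ρ ⁅a, b⁆) := (eq_inv_of_mul_eq_one_right e).symm
  have hsqc : ∀ a : G, a * a ∈ Subgroup.center G := fun a => Subgroup.mem_center_iff.2 fun g => by
    have : ⁅a * a, g⁆ = 1 := by rw [hml, hsq _ (hc a g)]
    exact (commutatorElement_eq_one_iff_mul_comm.1 this).symm
  have hswap : ∀ p q : G, q * p = p * q * ⁅p, q⁆ := fun p q => by
    calc q * p = ⁅q, p⁆ * (p * q) := by simp only [commutatorElement_def]; group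
      _ = p * q * ⁅q, p⁆ := (hcen _ (hc q p) _).symm
      _ = _ := by rw [hinv p q]
  have hmsq : ∀ a b : G, a * b * (a * b) = a * a * (b * b) * ⁅a, b⁆ := fun a b => by
    have h : b * a = a * b * ⁅a, b⁆ := hswap a b
    calc a * b * (a * b) = a * (b * a) * b := by group
      _ = a * (a * b * ⁅a, b⁆) * b := by rw [h]
      _ = a * (a * b * (⁅a, b⁆ * b)) := by group
      _ = a * (a * b * (b * ⁅a, b⁆)) := by rw [hcen _ (hc a b) b]
      _ = _ := by group
  -- elements fixed by `x`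
  have hlift : ∀ h : G, ∃ z ∈ Subgroup.center G, x (h * x h * z) = h * x h * z := by
    intro h
    obtain ⟨w, hw⟩ : ∃ w, w = ⁅h, x h⁆ := ⟨_, rfl⟩
    have hxg : x (h * x h) = h * x h * w := by rw [map_mul, hxx, hw, ← hswap h (x h)]
    have hwx : x w = w := by rw [hw, hxc, hxx, hinv]
    rcases hfix w (hw ▸ hc _ _) hwx with e | e
    · exact ⟨1, one_mem _, by rw [mul_one, hxg, e, mul_one]⟩
    · refine ⟨ρ f, hρZ f hfZ, ?_⟩
      rw [map_mul, hxg, e, hxρf, mul_assoc, ← hfsum, ← mul_assoc f, hff, one_mul]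
  obtain ⟨a, haC, haZ⟩ : ∃ a : G, x a = a ∧ a ∉ Subgroup.center G := by
    by_contra hall
    push Not at hall
    apply hna'
    have hxg : ∀ g : G, g * x g ∈ Subgroup.center G := fun g => by
      obtain ⟨z, hz, e⟩ := hlift g
      exact (Subgroup.mul_mem_cancel_right _ hz).1 (hall _ e)
    have hcg : ∀ g g' : G, x ⁅g, g'⁆ = ⁅g, g'⁆ := fun g g' => by
      have h1 : ∀ y : G, ⁅g * x g, y⁆ = 1 := fun y =>
        commutatorElement_eq_one_iff_mul_comm.2 (hcen _ (hxg g) y).symm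
      have h2' : ∀ y : G, ⁅y, g' * x g'⁆ = 1 := fun y => by
        rw [← hinv y (g' * x g')]
        exact commutatorElement_eq_one_iff_mul_comm.2 (hcen _ (hxg g') y).symm
      have a1 := h1 (x g'); have a2 := h2' g
      rw [hml] at a1; rw [hmr] at a2
      have b1 := eq_inv_of_mul_eq_one_left a1
      have b2 := eq_inv_of_mul_eq_one_left a2
      rw [hxc, b2, b1, inv_inv]
    intro g g'
    rw [← commutatorElement_eq_one_iff_mul_comm]
    rcases hfix _ (hc g g') (hcg g g') with e | e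
    · exact e
    · exfalso
      have h := hcg g (ρ g')
      rw [hB, e, hxρ, hxρf, cube] at h
      exact e3 h.symm
  obtain ⟨b, hbC, hab⟩ : ∃ b : G, x b = b ∧ ⁅a, b⁆ = f := by
    suffices ∃ b : G, x b = b ∧ ⁅a, b⁆ ≠ 1 by
      obtain ⟨b, hb, h⟩ := this
      refine ⟨b, hb, (hfix _ (hc a b) ?_).resolve_left h⟩
      rw [hxc, haC, hb]
    by_contra hall
    push Not at hall
    apply haZ
    have hx1 : ∀ g : G, x ⁅a, g⁆ = ⁅a, g⁆ := fun g => by
      obtain ⟨z, hz, e⟩ := hlift g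
      have h := hall _ e
      rw [hmr, hmr, commutatorElement_eq_one_iff_mul_comm.2 (hcen z hz a), mul_one] at h
      rw [hxc, haC, (eq_inv_of_mul_eq_one_left h : ⁅a, g⁆ = ⁅a, x g⁆⁻¹), inv_eq_of_mul_eq_one_right (hsq _ (hc _ _))]
    refine Subgroup.mem_center_iff.2 fun g => (commutatorElement_eq_one_iff_mul_comm.1 ?_).symm
    rcases hfix _ (hc a g) (hx1 g) with e | e
    · exact e
    · exfalso
      have h := hx1 (ρ g)
      rw [hB, e, hxρ, hxρf, cube] at h
      exact e3 h.symm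
  -- normalise the squares
  have hsqf : ∀ c : G, x c = c → c * c = 1 ∨ c * c = f := fun c e => hfix _ (hsqc c) (by rw [map_mul, e])
  obtain ⟨a, b, haC, hbC, hab, hcase⟩ : ∃ a b : G, x a = a ∧ x b = b ∧ ⁅a, b⁆ = f ∧
      ((a * a = 1 ∧ b * b = 1) ∨ (a * a = f ∧ b * b = f)) := by
    rcases hsqf a haC with ea | ea <;> rcases hsqf b hbC with eb | eb
    · exact ⟨a, b, haC, hbC, hab, Or.inl ⟨ea, eb⟩⟩
    · refine ⟨a, a * b, haC, by rw [map_mul, haC, hbC], ?_, Or.inl ⟨ea, ?_⟩⟩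
      · rw [hmr, commutatorElement_self, one_mul, hab]
      · rw [hmsq, ea, eb, hab, one_mul, hff]
    · refine ⟨b, a * b, hbC, by rw [map_mul, haC, hbC], ?_, Or.inl ⟨eb, ?_⟩⟩
      · rw [hmr, commutatorElement_self, mul_one, hinv, hab]
      · rw [hmsq, ea, eb, hab, mul_one, hff]
    · exact ⟨a, b, haC, hbC, hab, Or.inr ⟨ea, eb⟩⟩
  -- two involutions that do not commute
  obtain ⟨u, v, huu, hvv, huv, hgena, hgenb⟩ : ∃ u v : G, u * u = 1 ∧ v * v = 1 ∧ ⁅u, v⁆ = f ∧
      (∀ g : G, ⁅a, g⁆ = 1 → ⁅b, g⁆ = 1 → ⁅u, g⁆ = 1) ∧ (∀ g : G, ⁅a, g⁆ = 1 → ⁅b, g⁆ = 1 → ⁅v, g⁆ = 1) := by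
    rcases hcase with ⟨ea, eb⟩ | ⟨ea, eb⟩
    · exact ⟨a, b, ea, eb, hab, fun g h _ => h, fun g _ h => h⟩
    · have hρb : ∀ g : G, ⁅b, g⁆ = 1 → ⁅ρ b, g⁆ = 1 := fun g h => by
        rw [← hA, hB, h, map_one, map_one]
      refine ⟨a * ρ b, a * ρ (ρ b), ?_, ?_, ?_, fun g h1 h2' => by rw [hml, h1, hρb g h2', one_mul],
        fun g h1 h2' => ?_⟩
      · rw [hmsq, ea, ← map_mul, eb, hB, hab, hfsum, hsq _ (hρZ _ (hρZ f hfZ))]
      · rw [hmsq, ea, ← map_mul, ← map_mul, eb, hB, hB, hab, cube, mul_assoc,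
          ← hcen _ (hρZ _ (hρZ f hfZ)) (ρ f), ← mul_assoc, hfsum, hsq _ (hρZ _ (hρZ f hfZ))]
      · have c1 : ⁅ρ b, a⁆ = ρ (ρ f) := by rw [hinv a (ρ b), hB, hab]
        have c2 : ⁅a, ρ (ρ b)⁆ = ρ f := by rw [hB, hB, hab, cube]
        rw [hmr, hml, hml, commutatorElement_self, c1, c2, hself, mul_one, one_mul, ← hfsum, mul_assoc,
          hsq _ (hρZ f hfZ), mul_one]
      · rw [hml, h1, one_mul, ← hA, hB, hρb g h2', map_one, map_one]
  have hρ2c : ∀ p q : G, ⁅ρ p, q⁆ = ρ (ρ ⁅p, q⁆) := fun p q => by rw [← hA, hB]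
  have hnorm : ρ (ρ f) = f * ρ f := hfsum.symm
  have hrel : Rel u (ρ u) v (ρ v) f (ρ f) := by
    constructor
    · exact huu
    · rw [← map_mul, huu, map_one]
    · exact hvv
    · rw [← map_mul, hvv, map_one]
    · exact hff
    · rw [← map_mul, hff, map_one]
    · exact (T.comm u).symm
    · exact (T.comm v).symm
    · rw [hswap, huv]
    · rw [hswap, hB, huv, hnorm, ← mul_assoc]
    · rw [hswap, hρ2c, huv, hnorm, ← mul_assoc]
    · rw [hswap, ← hρc, huv]
    all_goals first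
      | exact (hcen f hfZ _).symm
      | exact (hcen _ (hρZ f hfZ) _).symm
  -- the normal form
  let P : Bool → G → G := fun c y => if c then y else 1
  have hPc : ∀ (c : Bool) (y g : G), ⁅P c y, g⁆ = P c ⁅y, g⁆ := fun c y g => by cases c <;> simp [P]
  have hP1 : ∀ (c : Bool), P c (1 : G) = 1 := fun c => by cases c <;> simp [P]
  have hK : ∀ X : G, X * X = 1 → X ≠ 1 → X ≠ f → ∀ c d c' d' : Bool,
      P c f * P d X = P c' f * P d' X → c = c' ∧ d = d' := by
    intro X hXX hX1 hXf c d c' d' h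
    cases c <;> cases d <;> cases c' <;> cases d' <;>
      simp only [P, if_true, Bool.false_eq_true, if_false, one_mul, mul_one] at h <;> first
      | exact ⟨rfl, rfl⟩
      | exact absurd h hX1
      | exact absurd h.symm hX1
      | exact absurd h hf1
      | exact absurd h.symm hf1
      | exact absurd h hXf
      | exact absurd h.symm hXf
      | exact absurd (mul_left_cancel (h.trans hff.symm)) hXf
      | exact absurd (mul_left_cancel (h.symm.trans hff.symm)) hXf
      | exact absurd (mul_eq_left.1 h) hX1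
      | exact absurd (mul_eq_left.1 h.symm) hX1
      | exact absurd (mul_eq_right.1 h) hf1
      | exact absurd (mul_eq_right.1 h.symm) hf1
  have hwv : ∀ i, ⁅word u (ρ u) v (ρ v) f (ρ f) i, v⁆ = P i.1.1 f * P i.1.2 (ρ (ρ f)) := by
    intro i
    show ⁅P i.1.1 u * P i.1.2 (ρ u) * P i.2.1.1 v * P i.2.1.2 (ρ v) * P i.2.2.1 f * P i.2.2.2 (ρ f), v⁆ = _
    rw [hml, hml, hml, hml, hml, hPc, hPc, hPc, hPc, hPc, hPc, huv, hρ2c, huv, commutatorElement_self,
      commutatorElement_eq_one_iff_mul_comm.2 (T.comm v).symm,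
      commutatorElement_eq_one_iff_mul_comm.2 (hcen f hfZ v).symm,
      commutatorElement_eq_one_iff_mul_comm.2 (hcen _ (hρZ f hfZ) v).symm, hP1, hP1, hP1, hP1, mul_one, mul_one, mul_one, mul_one]
  have hwu : ∀ i, ⁅word u (ρ u) v (ρ v) f (ρ f) i, u⁆ = P i.2.1.1 f * P i.2.1.2 (ρ (ρ f)) := by
    intro i
    show ⁅P i.1.1 u * P i.1.2 (ρ u) * P i.2.1.1 v * P i.2.1.2 (ρ v) * P i.2.2.1 f * P i.2.2.2 (ρ f), u⁆ = _
    have c1 : ⁅v, u⁆ = f := by rw [hinv u v, huv]
    have c2 : ⁅ρ v, u⁆ = ρ (ρ f) := by rw [hρ2c, c1]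
    have c3 : ⁅ρ u, u⁆ = 1 := commutatorElement_eq_one_iff_mul_comm.2 (T.comm u).symm
    have c4 : ⁅f, u⁆ = 1 := commutatorElement_eq_one_iff_mul_comm.2 (hcen f hfZ u).symm
    have c5 : ⁅ρ f, u⁆ = 1 := commutatorElement_eq_one_iff_mul_comm.2 (hcen _ (hρZ f hfZ) u).symm
    rw [hml, hml, hml, hml, hml, hPc, hPc, hPc, hPc, hPc, hPc, c1, c2, c3, c4, c5, commutatorElement_self,
      hP1, hP1, hP1, hP1, mul_one, mul_one, one_mul, one_mul]
  have hinj : Function.Injective (word u (ρ u) v (ρ v) f (ρ f)) := by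
    intro i j hij
    have p1 := hwv i; rw [hij, hwv j] at p1
    have p2 := hwu i; rw [hij, hwu j] at p2
    have hX : ρ (ρ f) * ρ (ρ f) = 1 := hsq _ (hρZ _ (hρZ f hfZ))
    obtain ⟨a1, a2⟩ := hK _ hX (hne _ (hne f hf1)) e2 _ _ _ _ p1
    obtain ⟨b1, b2⟩ := hK _ hX (hne _ (hne f hf1)) e2 _ _ _ _ p2
    obtain ⟨⟨i1, i2⟩, ⟨i3, i4⟩, i5, i6⟩ := i
    obtain ⟨⟨j1, j2⟩, ⟨j3, j4⟩, j5, j6⟩ := j
    simp only at a1 a2 b1 b2
    subst a1 a2 b1 b2
    simp only [word, mul_assoc, mul_right_inj] at hij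
    change P i5 f * P i6 (ρ f) = P j5 f * P j6 (ρ f) at hij
    obtain ⟨c1, c2⟩ := hK _ (hsq _ (hρZ f hfZ)) (hne f hf1) e1 _ _ _ _ hij
    rw [c1, c2]
  have hbij : Function.Bijective (word u (ρ u) v (ρ v) f (ρ f)) :=
    (Nat.bijective_iff_injective_and_card _).2 ⟨hinj, by rw [h64]; simp⟩
  refine ⟨⟨u, ρ u, v, ρ v, f, ρ f, hrel, hbij⟩, ?_⟩
  -- the fixed subgroup
  have hfC : f ∈ C := (hC f).2 hxf
  have haC' : a ∈ C := (hC a).2 haC
  have hbC' : b ∈ C := (hC b).2 hbC
  have hctr : ∀ g : G, ⁅a, g⁆ = 1 → ⁅b, g⁆ = 1 → g ∈ Subgroup.center G := by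
    intro g ga gb
    refine Subgroup.mem_center_iff.2 fun y => ?_
    obtain ⟨i, rfl⟩ := hbij.2 y
    have hu1 : u * g = g * u := commutatorElement_eq_one_iff_mul_comm.1 (hgena g ga gb)
    have hv1 : v * g = g * v := commutatorElement_eq_one_iff_mul_comm.1 (hgenb g ga gb)
    have hu2 : ρ u * g = g * ρ u := commutatorElement_eq_one_iff_mul_comm.1 (by
      rw [hρ2c, hgena g ga gb, map_one, map_one])
    have hv2 : ρ v * g = g * ρ v := commutatorElement_eq_one_iff_mul_comm.1 (by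
      rw [hρ2c, hgenb g ga gb, map_one, map_one])
    have hmem := word_mem (K := Subgroup.centralizer {g}) (Subgroup.mem_centralizer_singleton_iff.2 hu1)
      (Subgroup.mem_centralizer_singleton_iff.2 hu2) (Subgroup.mem_centralizer_singleton_iff.2 hv1)
      (Subgroup.mem_centralizer_singleton_iff.2 hv2) (Subgroup.mem_centralizer_singleton_iff.2 (hcen f hfZ g).symm)
      (Subgroup.mem_centralizer_singleton_iff.2 (hcen _ (hρZ f hfZ) g).symm) i
    exact Subgroup.mem_centralizer_singleton_iff.1 hmem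
  have hcov : ∀ g ∈ C, ∃ i j k : Bool, g = P i a * P j b * P k f := by
    intro g hg
    have hgx := (hC g).1 hg
    obtain ⟨kb, hkb⟩ : ∃ k, ⁅b, g⁆ = P k f := by
      rcases hfix _ (hc b g) (by rw [hxc, hbC, hgx]) with e | e
      · exact ⟨false, e⟩
      · exact ⟨true, e⟩
    obtain ⟨ka, hka⟩ : ∃ k, ⁅a, g⁆ = P k f := by
      rcases hfix _ (hc a g) (by rw [hxc, haC, hgx]) with e | e
      · exact ⟨false, e⟩
      · exact ⟨true, e⟩
    obtain ⟨y, hy⟩ : ∃ y, g = P kb a * P ka b * y := ⟨(P kb a * P ka b)⁻¹ * g, by group⟩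
    have hq : ⁅a, P kb a * P ka b⁆ = P ka f ∧ ⁅b, P kb a * P ka b⁆ = P kb f := by
      cases kb <;> cases ka <;> simp [P, hmr, hab, hinv a b]
    have hya : ⁅a, y⁆ = 1 := by
      rw [hy, hmr, hq.1] at hka; exact mul_eq_left.1 hka
    have hyb : ⁅b, y⁆ = 1 := by
      rw [hy, hmr, hq.2] at hkb; exact mul_eq_left.1 hkb
    have hyC : y ∈ C := by
      have hqC : P kb a * P ka b ∈ C := by
        refine mul_mem ?_ ?_ <;> simp only [P] <;> split_ifs <;> first | assumption | exact one_mem C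
      exact (Subgroup.mul_mem_cancel_left C hqC).1 (hy ▸ hg)
    rcases hfix y (hctr y hya hyb) ((hC y).1 hyC) with e | e
    · exact ⟨kb, ka, false, by rw [hy, e]; rfl⟩
    · exact ⟨kb, ka, true, by rw [hy, e]; rfl⟩
  have hC8 : Nat.card C = 8 := by
    let w : Bool × Bool × Bool → C := fun i => ⟨P i.1 a * P i.2.1 b * P i.2.2 f, by
      refine mul_mem (mul_mem ?_ ?_) ?_ <;> simp only [P] <;> split_ifs <;> first | assumption | exact one_mem C⟩
    have hw : Function.Bijective w := by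
      refine ⟨fun i j hij => ?_, fun g => ?_⟩
      · have h := congrArg Subtype.val hij
        change P i.1 a * P i.2.1 b * P i.2.2 f = P j.1 a * P j.2.1 b * P j.2.2 f at h
        have ha' := congrArg (fun y => ⁅a, y⁆) h
        have hb' := congrArg (fun y => ⁅b, y⁆) h
        obtain ⟨i1, i2, i3⟩ := i
        obtain ⟨j1, j2, j3⟩ := j
        have za : ⁅a, f⁆ = 1 := commutatorElement_eq_one_iff_mul_comm.2 (hcen f hfZ a)
        have zb : ⁅b, f⁆ = 1 := commutatorElement_eq_one_iff_mul_comm.2 (hcen f hfZ b)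
        have p2 : i2 = j2 := by
          cases i1 <;> cases i2 <;> cases i3 <;> cases j1 <;> cases j2 <;> cases j3 <;>
            simp [P, hmr, hab, za] at ha' ⊢ <;> first | exact hf1 ha' | exact hf1 ha'.symm
        have p1 : i1 = j1 := by
          cases i1 <;> cases i2 <;> cases i3 <;> cases j1 <;> cases j2 <;> cases j3 <;>
            simp [P, hmr, hinv a b, hab, zb] at hb' ⊢ <;> first | exact hf1 hb' | exact hf1 hb'.symm
        subst p1 p2
        have p3 : i3 = j3 := by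
          have := mul_left_cancel h
          cases i3 <;> cases j3 <;> simp [P] at this ⊢ <;> first | exact hf1 this | exact hf1 this.symm
        rw [p3]
      · obtain ⟨i, j, k, e⟩ := hcov g g.2
        exact ⟨(i, j, k), Subtype.ext e.symm⟩
    rw [← Nat.card_congr (Equiv.ofBijective w hw)]; simp
  have hba : b * a = a * b * f := by rw [hswap a b, hab]
  have hfc : ∀ g : G, g * f = f * g := hcen f hfZ
  have hnc : a * b ≠ b * a := fun e => hf1 (by rw [← hab]; exact commutatorElement_eq_one_iff_mul_comm.2 e)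
  rcases hcase with ⟨ea, eb⟩ | ⟨ea, eb⟩
  · left
    have hd : a * b * (a * b) = f := by rw [hmsq, ea, eb, hab, one_mul, one_mul]
    refine AutPOmega.dihedral_four hC8 (d := ⟨a * b, mul_mem haC' hbC'⟩) (s := ⟨a, haC'⟩) ?_ ?_ ?_ ?_ ?_
    · refine Subtype.ext ?_
      show (a * b) ^ 4 = 1
      rw [show (4 : ℕ) = 2 * 2 from rfl, pow_mul, pow_two (a * b), hd, pow_two, hff]
    · intro h
      have h' : (a * b) ^ 2 = 1 := congrArg Subtype.val h
      rw [pow_two, hd] at h'; exact hf1 h'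
    · exact Subtype.ext ea
    · refine Subtype.ext ?_
      show a * (a * b) * a * (a * b) = 1
      calc a * (a * b) * a * (a * b) = (a * a) * b * (a * a) * b := by group
        _ = 1 := by rw [ea, one_mul, mul_one, eb]
    · intro k h
      have h' : a = (a * b) ^ k := congrArg Subtype.val h
      have hcom : Commute a (a * b) := by
        conv_lhs => rw [h']
        exact (Commute.refl _).pow_left k
      apply hnc
      have h5 : a * (a * b) = a * (b * a) := by rw [hcom.eq, mul_assoc]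
      exact mul_left_cancel h5
  · right
    have ha4 : orderOf (⟨a, haC'⟩ : C) = 2 * 2 := by
      rw [← Subgroup.orderOf_coe]
      show orderOf a = 2 * 2
      have h : orderOf a = 2 ^ (1 + 1) := orderOf_eq_prime_pow (by rw [pow_one, pow_two, ea]; exact hf1)
        (by rw [show 2 ^ (1 + 1) = 2 * 2 by norm_num, pow_mul, pow_two a, ea, pow_two, hff])
      rw [h]; norm_num
    refine Cfsg.Agent.Fusion.nonempty_mulEquiv_quaternion 2 ha4 (g := ⟨b, hbC'⟩) ?_ ?_ ?_ ?_
    · refine Subtype.ext ?_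
      show b * b = a ^ 2
      rw [pow_two, ea, eb]
    · refine Subtype.ext ?_
      show b⁻¹ * a * b = a⁻¹
      refine eq_inv_of_mul_eq_one_left ?_
      calc b⁻¹ * a * b * a = b⁻¹ * a * (b * a) := by group
        _ = b⁻¹ * (a * a) * b * f := by rw [hba]; group
        _ = b⁻¹ * (b * f) * f := by rw [ea, mul_assoc b⁻¹ f b, ← hfc b]
        _ = 1 := by rw [inv_mul_cancel_left, hff]
    · rintro ⟨k, hk⟩
      have hk' : a ^ k = b := by simpa using congrArg Subtype.val hk
      exact hnc (by rw [← hk']; exact (Commute.refl a).zpow_right k)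
    · rintro ⟨g, hg⟩
      obtain ⟨i, j, k, e⟩ := hcov g hg
      have hpa : P i a * P k f ∈ Subgroup.zpowers a := by
        have h1 : a ∈ Subgroup.zpowers a := Subgroup.mem_zpowers a
        have h2 : f ∈ Subgroup.zpowers a := ea ▸ mul_mem h1 h1
        refine mul_mem ?_ ?_ <;> simp only [P] <;> split_ifs <;> first | assumption | exact one_mem _
      have conv : ∀ y : C, (y : G) ∈ Subgroup.zpowers a → y ∈ Subgroup.zpowers (⟨a, haC'⟩ : C) := by
        rintro y ⟨n, hn⟩
        exact ⟨n, Subtype.ext (by simpa using hn)⟩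
      cases j with
      | false =>
        left
        refine conv _ ?_
        show g ∈ _
        rw [e]; simpa [P] using hpa
      | true =>
        right
        refine conv _ ?_
        show b⁻¹ * g ∈ _
        have e' : b⁻¹ * g = b⁻¹ * P i a * b * P k f := by rw [e]; simp [P, mul_assoc]
        rw [e']
        have h1 : b⁻¹ * P i a * b ∈ Subgroup.zpowers a := by
          cases i
          · simp [P]
          · show b⁻¹ * a * b ∈ _
            have : b⁻¹ * a * b = a * f := by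
              calc b⁻¹ * a * b = b⁻¹ * (a * b * f) * f⁻¹ := by group
                _ = a * f⁻¹ := by rw [← hba]; group
                _ = _ := by rw [inv_eq_of_mul_eq_one_right hff]
            rw [this]
            have h1 : a ∈ Subgroup.zpowers a := Subgroup.mem_zpowers a
            exact mul_mem h1 (ea ▸ mul_mem h1 h1)
        refine mul_mem h1 ?_
        simp only [P]
        split_ifs
        · exact ea ▸ mul_mem (Subgroup.mem_zpowers a) (Subgroup.mem_zpowers a)
        · exact one_mem _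

end Cfsg.Agent.FPF64
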