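import Cfsg.Agent.FPF64.Basic
import Cfsg.Agent.Classical.LinearBasic

/-!
# The Sylow 2-subgroup of `PSL(3,4)` in the six-generator form
-/

set_option autoImplicit false

namespace Cfsg.Agent.FPF64

open Matrix
open scoped MatrixGroups

variable {F : Type} [Field F]

/-- Unitriangular matrix. -/
def ut (a b c : F) : SpecialLinearGroup (Fin 3) F :=
  ⟨!![1, a, c; 0, 1, b; 0, 0, 1], by simp [Matrix.det_fin_three]⟩

theorem ut_mul (a b c a' b' c' : F) : ut a b c * ut a' b' c' = ut (a + a') (b + b') (c + c' + a * b') := by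
  apply Subtype.ext
  show !![1, a, c; 0, 1, b; 0, 0, 1] * !![1, a', c'; 0, 1, b'; 0, 0, 1] =
    !![1, a + a', c + c' + a * b'; 0, 1, b + b'; 0, 0, 1]
  ext i j
  fin_cases i <;> fin_cases j <;> simp [Matrix.mul_apply, Fin.sum_univ_three] <;> ring

theorem ut_ext {a b c a' b' c' : F} (ha : a = a') (hb : b = b') (hc : c = c') : ut a b c = ut a' b' c' := by
  rw [ha, hb, hc]

theorem ut_zero : ut (0 : F) 0 0 = 1 := by
  apply Subtype.ext
  show !![(1 : F), 0, 0; 0, 1, 0; 0, 0, 1] = 1
  ext i j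
  fin_cases i <;> fin_cases j <;> simp

theorem mk_injective {a b c a' b' c' : F}
    (h : ((ut a b c : SpecialLinearGroup (Fin 3) F) : ProjectiveSpecialLinearGroup (Fin 3) F) = (ut a' b' c' : SpecialLinearGroup (Fin 3) F)) :
    a = a' ∧ b = b' ∧ c = c' := by
  have hinv : (ut a b c)⁻¹ = ut (-a) (-b) (a * b - c) := inv_eq_of_mul_eq_one_right (by
    rw [ut_mul, ← ut_zero]; congr 1 <;> ring)
  have h1 := QuotientGroup.eq.1 h
  rw [hinv, ut_mul, Matrix.SpecialLinearGroup.mem_center_iff] at h1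
  obtain ⟨r, -, hr⟩ := h1
  have e01 := congrFun (congrFun hr 0) 1
  have e12 := congrFun (congrFun hr 1) 2
  have e02 := congrFun (congrFun hr 0) 2
  simp [ut] at e01 e12 e02
  have ha : a = a' := by linear_combination e01
  have hb : b = b' := by linear_combination e12
  subst ha hb
  exact ⟨rfl, rfl, by linear_combination e02⟩

/-- Coefficient of a Boolean. -/
def cf (F : Type) [Field F] (b : Bool) : F := if b then 1 else 0

theorem cf_pair_injective {z : F} (h2 : (2 : F) = 0) (h0 : z ≠ 0) (h1 : z ≠ 1) {b b' c c' : Bool}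
    (h : cf F b + cf F b' * z = cf F c + cf F c' * z) : b = c ∧ b' = c' := by
  cases b <;> cases b' <;> cases c <;> cases c' <;>
    simp only [cf, if_true, Bool.false_eq_true, if_false] at h <;> first
    | exact ⟨rfl, rfl⟩
    | exact absurd (show z = 0 by linear_combination h) h0
    | exact absurd (show z = 0 by linear_combination -h) h0
    | exact absurd (show z = 1 by linear_combination h) h1
    | exact absurd (show z = 1 by linear_combination -h) h1
    | exact absurd (show z = 1 by linear_combination h - h2) h1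
    | exact absurd (show z = 1 by linear_combination -h - h2) h1
    | exact absurd (show (1 : F) = 0 by linear_combination h) one_ne_zero
    | exact absurd (show (1 : F) = 0 by linear_combination -h) one_ne_zero

set_option maxHeartbeats 800000 in
/-- The six generators and the Sylow subgroup containing them. -/
theorem exists_model (F : Type) [Field F] [Fintype F] (hF : Fintype.card F = 4) :
    ∃ (S : Sylow 2 (ProjectiveSpecialLinearGroup (Fin 3) F)) (u u' v v' f f' : ↥(S : Subgroup (ProjectiveSpecialLinearGroup (Fin 3) F))),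
      Rel u u' v v' f f' ∧ Function.Bijective (word u u' v v' f f') := by
  classical
  haveI : Fact (Nat.Prime 2) := ⟨Nat.prime_two⟩
  haveI : CharP F 2 := by
    obtain ⟨q, hq⟩ := CharP.exists F
    obtain ⟨n, hp, hn⟩ := FiniteField.card F q
    have h2 : q ∣ 2 ^ 2 := by
      rw [show (2 : ℕ) ^ 2 = 4 by norm_num, ← hF, hn]; exact dvd_pow_self _ n.pos.ne'
    rwa [(Nat.prime_dvd_prime_iff_eq hp Nat.prime_two).1 (hp.dvd_of_dvd_pow h2)] at hq
  have two : (2 : F) = 0 := CharTwo.two_eq_zero
  obtain ⟨w, hw0, hw1⟩ : ∃ w : F, w ≠ 0 ∧ w ≠ 1 := by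
    by_contra h
    push Not at h
    have : Fintype.card F ≤ ({0, 1} : Finset F).card := Finset.card_le_card (fun x _ => by
      by_cases hx : x = 0
      · simp [hx]
      · simp [h x hx])
    rw [hF] at this
    exact absurd (this.trans Finset.card_le_two) (by norm_num)
  have hw : w * w = w + 1 := by
    have h3 := FiniteField.pow_card_sub_one_eq_one w hw0
    rw [hF] at h3
    have : (w - 1) * (w * w + w + 1) = 0 := by linear_combination h3
    have := (mul_eq_zero.1 this).resolve_left (sub_ne_zero.2 hw1)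
    linear_combination this - (w + 1) * two
  let π : SpecialLinearGroup (Fin 3) F →* ProjectiveSpecialLinearGroup (Fin 3) F := QuotientGroup.mk' _
  obtain ⟨U, hU⟩ : ∃ U, U = π (ut 1 0 0) := ⟨_, rfl⟩
  obtain ⟨U', hU'⟩ : ∃ U', U' = π (ut (w + 1) 0 0) := ⟨_, rfl⟩
  obtain ⟨V, hV⟩ : ∃ V, V = π (ut 0 1 0) := ⟨_, rfl⟩
  obtain ⟨V', hV'⟩ : ∃ V', V' = π (ut 0 (w + 1) 0) := ⟨_, rfl⟩
  obtain ⟨A, hA⟩ : ∃ A, A = π (ut 0 0 1) := ⟨_, rfl⟩
  obtain ⟨A', hA'⟩ : ∃ A', A' = π (ut 0 0 w) := ⟨_, rfl⟩
  have hrel : Rel U U' V V' A A' := by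
    subst hU hU' hV hV' hA hA'
    have hw' : (w + 1) * (w + 1) = w := by linear_combination hw + (w + 1) * two
    constructor <;> simp only [← map_mul, ut_mul] <;> (try rw [← map_one π, ← ut_zero]) <;>
      refine congrArg π (ut_ext ?_ ?_ ?_) <;> first
      | ring1
      | linear_combination two
      | linear_combination -two
      | linear_combination w * two
      | linear_combination -w * two
      | linear_combination (w + 1) * two
      | linear_combination -(w + 1) * two
      | linear_combination -hw' - w * two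
      | linear_combination hw' + w * two
  have hone : (1 : ProjectiveSpecialLinearGroup (Fin 3) F) = π (ut 0 0 0) := by rw [ut_zero, map_one]
  have q1 : ∀ (b : Bool) (x : F), (if b then π (ut x 0 0) else 1) = π (ut (cf F b * x) 0 0) := by
    intro b x; cases b <;> simp [cf, ut_zero]
  have q2 : ∀ (b : Bool) (x : F), (if b then π (ut 0 x 0) else 1) = π (ut 0 (cf F b * x) 0) := by
    intro b x; cases b <;> simp [cf, ut_zero]
  have q3 : ∀ (b : Bool) (x : F), (if b then π (ut 0 0 x) else 1) = π (ut 0 0 (cf F b * x)) := by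
    intro b x; cases b <;> simp [cf, ut_zero]
  have hword : ∀ i, word U U' V V' A A' i = π (ut (cf F i.1.1 + cf F i.1.2 * (w + 1)) (cf F i.2.1.1 + cf F i.2.1.2 * (w + 1))
      ((cf F i.1.1 + cf F i.1.2 * (w + 1)) * (cf F i.2.1.1 + cf F i.2.1.2 * (w + 1)) + (cf F i.2.2.1 + cf F i.2.2.2 * w))) := by
    intro i
    unfold word
    rw [hU, hU', hV, hV', hA, hA', q1, q1, q2, q2, q3, q3]
    simp only [← map_mul, ut_mul]
    exact congrArg π (ut_ext (by ring) (by ring) (by ring))
  have hw2 : w + 1 ≠ 0 := fun h => hw1 (by linear_combination h - two)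
  have hw3 : w + 1 ≠ 1 := fun h => hw0 (by linear_combination h)
  have hinj : Function.Injective (word U U' V V' A A') := by
    intro i j hij
    rw [hword, hword] at hij
    obtain ⟨ha, hb, hc⟩ := mk_injective hij
    obtain ⟨a1, a2⟩ := cf_pair_injective two hw2 hw3 ha
    obtain ⟨b1, b2⟩ := cf_pair_injective two hw2 hw3 hb
    rw [ha, hb] at hc
    obtain ⟨c1, c2⟩ := cf_pair_injective two hw0 hw1 (add_left_cancel hc)
    exact Prod.ext (Prod.ext a1 a2) (Prod.ext (Prod.ext b1 b2) (Prod.ext c1 c2))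
  obtain ⟨Γ, hΓ⟩ : ∃ Γ, Γ = Subgroup.closure ({U, U', V, V', A, A'} : Set (ProjectiveSpecialLinearGroup (Fin 3) F)) := ⟨_, rfl⟩
  have hΓc : Nat.card Γ = 64 := by
    have h := hrel.range_eq_closure
    rw [← hΓ] at h
    rw [show Nat.card Γ = Nat.card (Set.range (word U U' V V' A A')) by rw [h]; rfl,
      Nat.card_range_of_injective hinj]
    simp
  obtain ⟨S, hS⟩ := (IsPGroup.of_card (p := 2) (n := 6) hΓc).exists_le_sylow
  have hcard : Nat.card (ProjectiveSpecialLinearGroup (Fin 3) F) = 20160 := by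
    have h1 := Classical.card_psl_mul (ι := Fin 3) (F := F)
    have h2 := Classical.card_sl_mul hF 3 (by norm_num)
    rw [Fintype.card_fin, hF, show Nat.gcd 3 (4 - 1) = 3 from rfl] at h1
    simp [Fin.prod_univ_three] at h2
    rw [← Nat.card_eq_fintype_card] at h2
    omega
  have hSc : Nat.card (S : Subgroup (ProjectiveSpecialLinearGroup (Fin 3) F)) = 64 := by
    obtain ⟨n, hn⟩ := IsPGroup.iff_card.1 S.isPGroup'
    have h1 : 2 ^ n ∣ 20160 := by rw [← hn, ← hcard]; exact Subgroup.card_subgroup_dvd_card _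
    have h6 : 6 ≤ n := (Nat.pow_dvd_pow_iff_le_right (by norm_num : 1 < 2)).1
      (by rw [← hn, show (2 : ℕ) ^ 6 = Nat.card Γ by rw [hΓc]; norm_num]; exact Subgroup.card_dvd_of_le hS)
    have h7 : n < 7 := by
      by_contra hc
      have h8 := (pow_dvd_pow 2 (not_lt.1 hc)).trans h1
      norm_num at h8
    rw [hn, show n = 6 by omega]
    norm_num
  have hΓS : Γ = (S : Subgroup _) := Subgroup.eq_of_le_of_card_ge hS (by rw [hΓc, hSc])
  have hm : ∀ y ∈ ({U, U', V, V', A, A'} : Set _), y ∈ (S : Subgroup (ProjectiveSpecialLinearGroup (Fin 3) F)) :=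
    fun y hy => hΓS ▸ hΓ ▸ Subgroup.subset_closure hy
  refine ⟨S, ⟨U, hm _ (by simp)⟩, ⟨U', hm _ (by simp)⟩, ⟨V, hm _ (by simp)⟩, ⟨V', hm _ (by simp)⟩,
    ⟨A, hm _ (by simp)⟩, ⟨A', hm _ (by simp)⟩, ?_, ?_⟩
  · obtain ⟨h1, h2, h3, h4, h5, h6, h7, h8, h9, h10, h11, h12, h13, h14, h15, h16, h17, h18, h19, h20, h21⟩ := hrel
    constructor <;> refine Subtype.ext ?_ <;> assumption
  · have hco : ∀ i, ((word (⟨U, hm _ (by simp)⟩ : (S : Subgroup _)) ⟨U', hm _ (by simp)⟩ ⟨V, hm _ (by simp)⟩
        ⟨V', hm _ (by simp)⟩ ⟨A, hm _ (by simp)⟩ ⟨A', hm _ (by simp)⟩ i : (S : Subgroup _)) :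
          ProjectiveSpecialLinearGroup (Fin 3) F) = word U U' V V' A A' i := by
      rintro ⟨⟨a, b⟩, ⟨c, d⟩, e, g⟩
      simp only [word, Subgroup.coe_mul]
      cases a <;> cases b <;> cases c <;> cases d <;> cases e <;> cases g <;> rfl
    refine (Nat.bijective_iff_injective_and_card _).2 ⟨fun i j h => hinj ?_, by rw [hSc]; simp⟩
    rw [← hco, ← hco, h]

end Cfsg.Agent.FPF64
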